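import Groth.Agent.ResProp.K234.TopVan
import Groth.Agent.CalgB.AmpleBase
import Groth.Agent.CohqB.AmpGeneric
import Groth.Agent.S0055

/-!
# Vanishing of higher direct images of high twists by an absolutely ample module

`K924.RelVan.exists_acyclic` (node RELVAN of helper234).
-/

set_option autoImplicit false
universe u

open CategoryTheory Limits Opposite TopologicalSpace AlgebraicGeometry

namespace K924.RelVan

open Groth.Agent

/-- `R^p f_*(M ⊗ L^n) = 0` for `L` absolutely ample, `n ≥ n₀` and `p > 0`. -/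
theorem exists_acyclic_of_isNoetherian {Y X : Scheme.{u}} [IsNoetherian X] (f : Y ⟶ X) [IsProper f]
    (L : Y.Modules) (hL : CohB1.IsAmple L) (M : Y.Modules) (hM : Coh.IsCoh M) :
    ∃ n₀ : ℕ, ∀ n : ℕ, n₀ ≤ n → ∀ p : ℕ, 0 < p →
      IsZero ((Coh.RpushAb f p).obj (Coh.toAb (CohB1.tensorMod M (CohB1.tensorPow L n)))) := by
  have h1 : IsLocallyNoetherian Y := LocallyOfFiniteType.isLocallyNoetherian f
  have h2 : CompactSpace Y := QuasiCompact.compactSpace_of_compactSpace f
  have h3 : IsNoetherian Y := {}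
  refine Groth.Agent.S0055.result f L hL.1 (fun W _ => ?_) M hM
  exact (Groth.Agent.CohqB.AmpCocycle.isAmple_restrict_iff (f ⁻¹ᵁ W).ι L).mpr
    (Groth.Agent.CalgB.AmpleBase.isAmple_pullback_of_isImmersion (f ⁻¹ᵁ W).ι hL)

/-- `R^p f_*(M ⊗ L^n) = 0` for `L` absolutely ample, over a proper scheme over a Noetherian ring. -/
theorem exists_acyclic {A : Type u} [CommRing A] [IsNoetherianRing A] {Y X : Scheme.{u}}
    (pX : X ⟶ Spec (CommRingCat.of A)) [IsProper pX] (f : Y ⟶ X) [IsProper f]
    (L : Y.Modules) (hL : CohB1.IsAmple L) (M : Y.Modules) (hM : Coh.IsCoh M) :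
    ∃ n₀ : ℕ, ∀ n : ℕ, n₀ ≤ n → ∀ p : ℕ, 0 < p →
      IsZero ((Coh.RpushAb f p).obj (Coh.toAb (CohB1.tensorMod M (CohB1.tensorPow L n)))) := by
  have : IsNoetherianRing (CommRingCat.of A) := inferInstanceAs (IsNoetherianRing A)
  have h1 : IsLocallyNoetherian X := LocallyOfFiniteType.isLocallyNoetherian pX
  have h2 : CompactSpace X := QuasiCompact.compactSpace_of_compactSpace pX
  have h3 : IsNoetherian X := {}
  exact exists_acyclic_of_isNoetherian f L hL M hM

end K924.RelVan
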